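import Groth.Agent.ValRedLib.Basic
import Groth.Agent.FlatLocus.FibreStalk

/-!
# Reduced fibres of a proper flat scheme over a valuation ring
-/

set_option autoImplicit false
set_option linter.style.haveILetI false
set_option backward.isDefEq.respectTransparency false

universe u

open CategoryTheory CategoryTheory.Limits AlgebraicGeometry

namespace Groth.Agent.ValRedLib

/-- Reducedness of a localisation modulo an ideal. -/
theorem isReduced_localization_quotient_iff {B O : Type u} [CommRing B] [CommRing O] [Algebra B O]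
    (q : Ideal B) [q.IsPrime] [IsLocalization.AtPrime O q] (J : Ideal B) :
    IsReduced (O ⧸ J.map (algebraMap B O)) ↔ SqAt q J := by
  have hmem : ∀ b : B, algebraMap B O b ∈ J.map (algebraMap B O) ↔ ∃ t, t ∉ q ∧ t * b ∈ J := fun b => by
    rw [IsLocalization.algebraMap_mem_map_algebraMap_iff q.primeCompl]
    exact ⟨fun ⟨t, ht, h⟩ => ⟨t, ht, h⟩, fun ⟨t, ht, h⟩ => ⟨t, ht, h⟩⟩
  constructor
  · intro _ b hb
    refine (hmem b).1 (Ideal.Quotient.eq_zero_iff_mem.1 (IsNilpotent.eq_zero ⟨2, ?_⟩))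
    rw [← map_pow, ← map_pow, Ideal.Quotient.eq_zero_iff_mem]
    exact Ideal.mem_map_of_mem _ hb
  · intro h
    rw [isReduced_iff_pow_one_lt 2 one_lt_two]
    intro z hz
    obtain ⟨z, rfl⟩ := Ideal.Quotient.mk_surjective z
    rw [← map_pow, Ideal.Quotient.eq_zero_iff_mem] at hz
    rw [Ideal.Quotient.eq_zero_iff_mem]
    obtain ⟨b, s, rfl⟩ := IsLocalization.exists_mk'_eq q.primeCompl z
    rw [← IsLocalization.mk'_pow, IsLocalization.mk'_mem_iff] at hz
    rw [IsLocalization.mk'_mem_iff]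
    obtain ⟨t, ht, htb⟩ := (hmem _).1 hz
    obtain ⟨t', ht', htb'⟩ := h (t * b) (by rw [mul_pow, sq t, mul_assoc]; exact Ideal.mul_mem_left _ _ htb)
    exact (hmem b).2 ⟨t' * t, q.primeCompl.mul_mem ht' ht, by rwa [mul_assoc]⟩

variable {R : Type u} [CommRing R] {X : Scheme.{u}} (f : X ⟶ Spec (CommRingCat.of R)) {W : X.Opens}
  (hW : IsAffineOpen W)

abbrev topLE (W : X.Opens) : W ≤ f ⁻¹ᵁ ⊤ := le_top

theorem isReduced_fiber_stalk_iff (s₀ : Spec (CommRingCat.of R)) (z : f.fiber s₀)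
    (hy : f.fiberι s₀ z ∈ W) :
    IsReduced ((f.fiber s₀).presheaf.stalk z) ↔
      SqAt (hW.primeIdealOf ⟨f.fiberι s₀ z, hy⟩).asIdeal
        (Ideal.map (f.appLE ⊤ W (topLE f W)).hom
          ((hW.primeIdealOf ⟨f.fiberι s₀ z, hy⟩).asIdeal.comap (f.appLE ⊤ W (topLE f W)).hom)) := by
  set x := f.fiberι s₀ z with hx
  have hV : IsAffineOpen (⊤ : (Spec (CommRingCat.of R)).Opens) := isAffineOpen_top _
  letI : Algebra Γ(X, W) (X.presheaf.stalk x) := TopCat.Presheaf.algebra_section_stalk X.presheaf ⟨x, hy⟩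
  haveI := hW.isLocalization_stalk ⟨x, hy⟩
  rw [← isReduced_localization_quotient_iff (O := X.presheaf.stalk x)]
  let s : (Spec (CommRingCat.of R)) := f x
  letI : Algebra Γ(Spec (CommRingCat.of R), ⊤) ((Spec (CommRingCat.of R)).presheaf.stalk s) :=
    TopCat.Presheaf.algebra_section_stalk (Spec (CommRingCat.of R)).presheaf (U := ⊤) ⟨s, trivial⟩
  haveI := hV.isLocalization_stalk ⟨s, trivial⟩
  have hm : IsLocalRing.maximalIdeal ((Spec (CommRingCat.of R)).presheaf.stalk s) =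
      (hV.primeIdealOf ⟨s, trivial⟩).asIdeal.map
        ((Spec (CommRingCat.of R)).presheaf.germ ⊤ s trivial).hom :=
    (IsLocalization.AtPrime.map_eq_maximalIdeal (hV.primeIdealOf ⟨s, trivial⟩).asIdeal _).symm
  have hP : (hV.primeIdealOf ⟨s, trivial⟩).asIdeal =
      (hW.primeIdealOf ⟨x, hy⟩).asIdeal.comap (f.appLE ⊤ W (topLE f W)).hom :=
    (congr($(IsAffineOpen.comap_primeIdealOf_appLE ⊤ hV W hW (topLE f W) hy).1)).symm
  have hJ : Ideal.map (algebraMap Γ(X, W) (X.presheaf.stalk x))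
      (Ideal.map (f.appLE ⊤ W (topLE f W)).hom
        ((hW.primeIdealOf ⟨x, hy⟩).asIdeal.comap (f.appLE ⊤ W (topLE f W)).hom)) =
      RingHom.ker ((f.fiberι s₀).stalkMap z).hom := by
    rw [FlatLocus.ker_fiberι_stalkMap, hm, ← hP, Ideal.map_map, Ideal.map_map]
    congr 1
    ext a
    show X.presheaf.germ W x hy (f.appLE ⊤ W (topLE f W) a) =
      f.stalkMap x ((Spec (CommRingCat.of R)).presheaf.germ ⊤ s trivial a)
    rw [f.germ_stalkMap_apply, Scheme.Hom.appLE, CommRingCat.comp_apply,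
      TopCat.Presheaf.germ_res_apply]
  rw [hJ]
  let e := RingHom.quotientKerEquivOfSurjective (f := ((f.fiberι s₀).stalkMap z).hom)
    ((f.fiberι s₀).stalkMap_surjective z)
  exact ⟨fun _ => isReduced_of_injective e e.injective, fun _ => isReduced_of_injective e.symm e.symm.injective⟩

variable [IsDomain R] [ValuationRing R] [IsProper f] [Flat f]

theorem sqAt_all (y : X) (hred : IsReduced (f.fiber (IsLocalRing.closedPoint R))) :
    ∃ (W : X.Opens) (hW : IsAffineOpen W) (hy : y ∈ W),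
      ∀ p : Ideal Γ(Spec (CommRingCat.of R), ⊤), p.IsPrime →
        SqAt (hW.primeIdealOf ⟨y, hy⟩).asIdeal (Ideal.map (f.appLE ⊤ W (topLE f W)).hom p) := by
  obtain ⟨x, hyx, hx⟩ : ∃ x, y ⤳ x ∧ f x = IsLocalRing.closedPoint R := by
    have h1 : IsLocalRing.closedPoint R ∈ closure (f '' closure ({y} : Set X)) :=
      closure_mono (s := ({f y} : Set ↥(Spec (CommRingCat.of R)))) (t := f '' closure ({y} : Set X)) (Set.singleton_subset_iff.2 ⟨y, subset_closure rfl, rfl⟩)
        (IsLocalRing.specializes_closedPoint (f y : PrimeSpectrum R)).mem_closure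
    rw [(f.isClosedMap _ isClosed_closure).closure_eq] at h1
    obtain ⟨x, hx, hfx⟩ := h1
    exact ⟨x, specializes_iff_mem_closure.2 hx, hfx⟩
  obtain ⟨_, ⟨W : X.Opens, (hW : IsAffineOpen W), rfl⟩, hxW, -⟩ :=
    X.isBasis_affineOpens.exists_subset_of_mem_open (Set.mem_univ x) isOpen_univ
  have hyW : y ∈ W := hyx.mem_open W.2 hxW
  refine ⟨W, hW, hyW, ?_⟩
  have hV : IsAffineOpen (⊤ : (Spec (CommRingCat.of R)).Opens) := isAffineOpen_top _
  let φ := f.appLE ⊤ W (topLE f W)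
  let ε : R ≃+* Γ(Spec (CommRingCat.of R), ⊤) :=
    (Scheme.ΓSpecIso (CommRingCat.of R)).symm.commRingCatIsoToRingEquiv
  haveI : IsDomain Γ(Spec (CommRingCat.of R), ⊤) := ε.symm.toMulEquiv.isDomain
  haveI : ValuationRing Γ(Spec (CommRingCat.of R), ⊤) :=
    Function.Surjective.valuationRing ε.toRingHom ε.surjective
  letI : Algebra Γ(Spec (CommRingCat.of R), ⊤) Γ(X, W) := φ.hom.toAlgebra
  haveI : Algebra.FiniteType Γ(Spec (CommRingCat.of R), ⊤) Γ(X, W) := f.finiteType_appLE hV hW _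
  haveI : Module.Flat Γ(Spec (CommRingCat.of R), ⊤) Γ(X, W) :=
    (HasRingHomProperty.appLE @Flat f inferInstance ⟨⊤, hV⟩ ⟨W, hW⟩ (topLE f W) : φ.hom.Flat)
  have hP : (hW.primeIdealOf ⟨x, hxW⟩).asIdeal.comap φ.hom =
      (hV.primeIdealOf ⟨f x, trivial⟩).asIdeal :=
    congr($(IsAffineOpen.comap_primeIdealOf_appLE ⊤ hV W hW (topLE f W) hxW).1)
  haveI : (hV.primeIdealOf ⟨f x, trivial⟩).asIdeal.IsMaximal := by
    rw [← PrimeSpectrum.isClosed_singleton_iff_isMaximal]
    have : hV.fromSpec ⁻¹' {f x} = {hV.primeIdealOf ⟨f x, trivial⟩} := by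
      ext Q
      refine ⟨fun h => hV.fromSpec.isEmbedding.injective (h.trans (hV.fromSpec_primeIdealOf ⟨f x, trivial⟩).symm), ?_⟩
      rintro rfl
      exact hV.fromSpec_primeIdealOf ⟨f x, trivial⟩
    rw [← this]
    refine IsClosed.preimage hV.fromSpec.continuous ?_
    rw [hx]
    exact (PrimeSpectrum.isClosed_singleton_iff_isMaximal (IsLocalRing.closedPoint R)).2
      (IsLocalRing.maximalIdeal.isMaximal R)
  have hq : (hW.primeIdealOf ⟨x, hxW⟩).asIdeal.comap φ.hom =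
      IsLocalRing.maximalIdeal Γ(Spec (CommRingCat.of R), ⊤) :=
    hP.trans (IsLocalRing.eq_maximalIdeal inferInstance)
  obtain ⟨z, rfl⟩ : x ∈ Set.range (f.fiberι (IsLocalRing.closedPoint R)) := (f.range_fiberι _).ge hx
  haveI := hred
  have h := (isReduced_fiber_stalk_iff f hW _ z hxW).1 inferInstance
  rw [hq] at h
  intro p hp b hb
  obtain ⟨t, ht, htb⟩ := sqAt (R := Γ(Spec (CommRingCat.of R), ⊤)) (hW.primeIdealOf ⟨_, hxW⟩).asIdeal hq h p b hb
  refine ⟨t, fun h' => ht ?_, htb⟩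
  have hle : hW.primeIdealOf ⟨y, hyW⟩ ≤ hW.primeIdealOf ⟨_, hxW⟩ := by
    rw [PrimeSpectrum.le_iff_specializes, ← hW.fromSpec.isEmbedding.isInducing.specializes_iff,
      hW.fromSpec_primeIdealOf, hW.fromSpec_primeIdealOf]
    exact hyx
  exact hle h'

end Groth.Agent.ValRedLib
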