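import Groth.Agent.S0406
import Mathlib

/-!
# Reduced special fibres of flat algebras over valuation rings
-/

set_option autoImplicit false
set_option linter.style.haveILetI false
set_option backward.isDefEq.respectTransparency false

universe u

namespace Groth.Agent.ValRedLib

/-- Near `q` an element whose square lies in `I` lies in `I`. -/
def SqAt {B : Type u} [CommRing B] (q I : Ideal B) : Prop :=
  ∀ b : B, b ^ 2 ∈ I → ∃ t, t ∉ q ∧ t * b ∈ I

theorem SqAt.pow {B : Type u} [CommRing B] {q I : Ideal B} [q.IsPrime] (h : SqAt q I) :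
    ∀ (k : ℕ) (b : B), b ^ 2 ^ k ∈ I → ∃ t, t ∉ q ∧ t * b ∈ I := by
  intro k
  induction k with
  | zero => exact fun b hb => ⟨1, fun h1 => ‹q.IsPrime›.ne_top ((Ideal.eq_top_iff_one _).2 h1), by simpa using hb⟩
  | succ k ih =>
    intro b hb
    obtain ⟨t, ht, htb⟩ := ih (b ^ 2) (by rwa [← pow_mul, ← pow_succ'])
    obtain ⟨s, hs, hsb⟩ := h (t * b) (by
      rw [show (t * b) ^ 2 = t * (t * b ^ 2) by ring]
      exact Ideal.mul_mem_left _ _ htb)
    exact ⟨s * t, fun hst => (‹q.IsPrime›.mem_or_mem hst).elim hs ht, by rwa [mul_assoc]⟩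

/-- An element of an extended ideal of a valuation ring is a multiple of a single element. -/
theorem exists_of_mem_map {R B : Type u} [CommRing R] [IsDomain R] [ValuationRing R] [CommRing B]
    [Algebra R B] (I : Ideal R) {x : B} (hx : x ∈ I.map (algebraMap R B)) :
    ∃ a ∈ I, ∃ c : B, x = algebraMap R B a * c := by
  rw [Ideal.map] at hx
  induction hx using Submodule.span_induction with
  | mem y hy =>
    obtain ⟨a, ha, rfl⟩ := hy
    exact ⟨a, ha, 1, (mul_one _).symm⟩
  | zero => exact ⟨0, I.zero_mem, 0, by simp⟩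
  | add y z _ _ hy hz =>
    obtain ⟨a, ha, c, rfl⟩ := hy
    obtain ⟨b, hb, d, rfl⟩ := hz
    obtain ⟨r, hr | hr⟩ := ValuationRing.cond a b
    · exact ⟨a, ha, c + algebraMap R B r * d, by rw [← hr, map_mul]; ring⟩
    · exact ⟨b, hb, algebraMap R B r * c + d, by rw [← hr, map_mul]; ring⟩
  | smul r y _ hy =>
    obtain ⟨a, ha, c, rfl⟩ := hy
    exact ⟨a, ha, r * c, by rw [smul_eq_mul]; ring⟩

/-- Over a valuation ring a flat algebra of finite type with reduced closed fibre is reduced near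
that fibre. -/
theorem sqAt_bot {R C : Type u} [CommRing R] [IsDomain R] [ValuationRing R] [CommRing C] [Algebra R C]
    [Algebra.FiniteType R C] (htf : ∀ (a : R) (c : C), a ≠ 0 → algebraMap R C a * c = 0 → c = 0)
    (q : Ideal C) [q.IsPrime] (hq : q.comap (algebraMap R C) = IsLocalRing.maximalIdeal R)
    (h : SqAt q ((IsLocalRing.maximalIdeal R).map (algebraMap R C))) : SqAt q ⊥ := by
  classical
  have flat_of : ∀ (D : Type u) [CommRing D] [Algebra R D],
      (∀ (a : R) (c : D), a ≠ 0 → algebraMap R D a * c = 0 → c = 0) → Module.Flat R D := by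
    intro D _ _ hD
    rw [Module.Flat.flat_iff_torsion_eq_bot_of_isBezout, eq_bot_iff]
    rintro c ⟨⟨a, ha⟩, hac⟩
    rw [Submodule.mem_bot]
    refine hD a c (nonZeroDivisors.ne_zero ha) ?_
    rw [← Algebra.smul_def]
    exact hac
  let N : Ideal C := (⊥ : Ideal C).radical
  have hN : ∀ (a : R) (c : C), a ≠ 0 → algebraMap R C a * c ∈ N → c ∈ N := by
    rintro a c ha ⟨k, hk⟩
    rw [mul_pow, Ideal.mem_bot, ← map_pow] at hk
    exact ⟨k, (Ideal.mem_bot).2 (htf _ _ (pow_ne_zero k ha) hk)⟩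
  haveI := flat_of C htf
  haveI : Module.Flat R (C ⧸ N) := flat_of (C ⧸ N) fun a c ha hc => by
    obtain ⟨c, rfl⟩ := Ideal.Quotient.mk_surjective c
    rw [← Ideal.Quotient.mk_algebraMap, ← map_mul, Ideal.Quotient.eq_zero_iff_mem] at hc
    exact Ideal.Quotient.eq_zero_iff_mem.2 (hN a c ha hc)
  haveI : Algebra.FiniteType R (C ⧸ N) :=
    Algebra.FiniteType.of_surjective (Ideal.Quotient.mkₐ R N) Ideal.Quotient.mk_surjective
  haveI : Algebra.FinitePresentation R C := Groth.Agent.S0406.result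
  haveI : Algebra.FinitePresentation R (C ⧸ N) := Groth.Agent.S0406.result
  have hfg : N.FG := by
    have := Algebra.FinitePresentation.ker_fG_of_surjective (Ideal.Quotient.mkₐ R N) Ideal.Quotient.mk_surjective
    rwa [show RingHom.ker (Ideal.Quotient.mkₐ R N).toRingHom = N from Ideal.mk_ker] at this
  let L := Localization.AtPrime q
  let N' : Ideal L := N.map (algebraMap C L)
  have hle : N' ≤ IsLocalRing.maximalIdeal L • N' := by
    refine Ideal.map_le_iff_le_comap.2 fun b hb => ?_
    obtain ⟨k, hk⟩ := id hb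
    obtain ⟨t, ht, htb⟩ := h.pow k b (by
      have h1 : b ^ 2 ^ k = 0 := pow_eq_zero_of_le (Nat.lt_two_pow_self).le (Ideal.mem_bot.1 hk)
      rw [h1]; exact Ideal.zero_mem _)
    obtain ⟨a, ha, c, hac⟩ := exists_of_mem_map _ htb
    have hu : IsUnit (algebraMap C L t) := IsLocalization.map_units L (⟨t, ht⟩ : q.primeCompl)
    rw [Ideal.mem_comap, ← hu.unit.inv_mul_cancel_left (algebraMap C L b), IsUnit.unit_spec,
      ← map_mul, hac, map_mul, smul_eq_mul]
    refine Ideal.mul_mem_left _ _ ?_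
    rcases eq_or_ne a 0 with rfl | ha0
    · rw [map_zero, map_zero, zero_mul]
      exact zero_mem _
    refine Ideal.mul_mem_mul ?_ ?_
    · rw [← Localization.AtPrime.map_eq_maximalIdeal]
      exact Ideal.mem_map_of_mem _ (hq.ge ha)
    · exact Ideal.mem_map_of_mem _ (hN a c ha0 (hac ▸ Ideal.mul_mem_left _ _ hb))
  have hbot : N' = ⊥ := Submodule.eq_bot_of_le_smul_of_le_jacobson_bot _ N' (hfg.map _) hle
    (IsLocalRing.maximalIdeal_le_jacobson _)
  intro b hb
  have : algebraMap C L b = 0 := by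
    have hbN : b ∈ N := ⟨2, hb⟩
    have h2 : algebraMap C L b ∈ N' := Ideal.mem_map_of_mem _ hbN
    rwa [hbot, Ideal.mem_bot] at h2
  obtain ⟨t, ht⟩ := (IsLocalization.map_eq_zero_iff q.primeCompl L b).1 this
  exact ⟨t, t.2, ht⟩

/-- A flat algebra of finite type over a valuation ring with reduced closed fibre has reduced fibres
near the closed fibre. -/
theorem sqAt {R B : Type u} [CommRing R] [IsDomain R] [ValuationRing R] [CommRing B] [Algebra R B]
    [Algebra.FiniteType R B] [Module.Flat R B]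
    (q : Ideal B) [q.IsPrime] (hq : q.comap (algebraMap R B) = IsLocalRing.maximalIdeal R)
    (h : SqAt q ((IsLocalRing.maximalIdeal R).map (algebraMap R B))) (p : Ideal R) [p.IsPrime] :
    SqAt q (p.map (algebraMap R B)) := by
  let P := p.map (algebraMap R B)
  have hPq : P ≤ q := Ideal.map_le_iff_le_comap.2 (hq ▸ IsLocalRing.le_maximalIdeal (Ideal.IsPrime.ne_top ‹_›))
  haveI : ValuationRing (R ⧸ p) := Function.Surjective.valuationRing (Ideal.Quotient.mk p) Ideal.Quotient.mk_surjective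
  let C := B ⧸ P
  haveI : Algebra.FiniteType (R ⧸ p) C :=
    haveI : Algebra.FiniteType R C := Algebra.FiniteType.of_surjective (Ideal.Quotient.mkₐ R P) Ideal.Quotient.mk_surjective
    Algebra.FiniteType.of_restrictScalars_finiteType R (R ⧸ p) C
  haveI : (q.map (Ideal.Quotient.mk P)).IsPrime :=
    Ideal.map_isPrime_of_surjective Ideal.Quotient.mk_surjective (by rwa [Ideal.mk_ker])
  have hcomp : (algebraMap (R ⧸ p) C).comp (Ideal.Quotient.mk p) = (Ideal.Quotient.mk P).comp (algebraMap R B) :=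
    RingHom.ext fun _ => rfl
  have hm : IsLocalRing.maximalIdeal (R ⧸ p) = (IsLocalRing.maximalIdeal R).map (Ideal.Quotient.mk p) := by
    refine (IsLocalRing.eq_maximalIdeal ?_).symm
    exact Ideal.IsMaximal.map_of_surjective_of_ker_le Ideal.Quotient.mk_surjective
      (by rw [Ideal.mk_ker]; exact IsLocalRing.le_maximalIdeal (Ideal.IsPrime.ne_top ‹_›))
  have hq' : (q.map (Ideal.Quotient.mk P)).comap (algebraMap (R ⧸ p) C) = IsLocalRing.maximalIdeal (R ⧸ p) := by
    apply Ideal.comap_injective_of_surjective _ (Ideal.Quotient.mk_surjective (I := p))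
    rw [Ideal.comap_comap, hcomp, ← Ideal.comap_comap, Ideal.comap_map_of_surjective' _ Ideal.Quotient.mk_surjective,
      Ideal.mk_ker, sup_eq_left.2 hPq, hq, hm, Ideal.comap_map_of_surjective' _ Ideal.Quotient.mk_surjective,
      Ideal.mk_ker, sup_eq_left.2 (IsLocalRing.le_maximalIdeal (Ideal.IsPrime.ne_top ‹_›))]
  have h' : SqAt (q.map (Ideal.Quotient.mk P))
      ((IsLocalRing.maximalIdeal (R ⧸ p)).map (algebraMap (R ⧸ p) C)) := by
    rw [hm, Ideal.map_map, hcomp, ← Ideal.map_map]
    have hmem : ∀ x, Ideal.Quotient.mk P x ∈ ((IsLocalRing.maximalIdeal R).map (algebraMap R B)).map (Ideal.Quotient.mk P) ↔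
        x ∈ (IsLocalRing.maximalIdeal R).map (algebraMap R B) := fun x => by
      rw [Ideal.mem_quotient_iff_mem]
      exact Ideal.map_mono (IsLocalRing.le_maximalIdeal (Ideal.IsPrime.ne_top ‹_›))
    intro b hb
    obtain ⟨b, rfl⟩ := Ideal.Quotient.mk_surjective b
    rw [← map_pow, hmem] at hb
    obtain ⟨t, ht, htb⟩ := h b hb
    refine ⟨Ideal.Quotient.mk P t, fun h1 => ht ((Ideal.mem_quotient_iff_mem hPq).1 h1), ?_⟩
    rw [← map_mul, hmem]
    exact htb
  have hsq := sqAt_bot (R := R ⧸ p) (C := C) (fun a c ha hc => by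
    obtain ⟨a, rfl⟩ := Ideal.Quotient.mk_surjective a
    obtain ⟨c, rfl⟩ := Ideal.Quotient.mk_surjective c
    have hap : a ∉ p := fun h => ha (Ideal.Quotient.eq_zero_iff_mem.2 h)
    have hac : algebraMap R B a * c ∈ P := by
      rw [← Ideal.Quotient.eq_zero_iff_mem]; exact hc
    obtain ⟨b, hb, d, hbd⟩ := exists_of_mem_map p hac
    obtain ⟨r, hr | hr⟩ := ValuationRing.cond a b
    · have hrp : r ∈ p := ((‹p.IsPrime›.mem_or_mem (hr ▸ hb))).resolve_left hap
      rw [← hr, map_mul, mul_assoc, ← sub_eq_zero, ← mul_sub] at hbd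
      have hz : c - algebraMap R B r * d = 0 := by
        refine Module.Flat.isSMulRegular_of_isRegular (M := B) (IsRegular.of_ne_zero (a := a) (fun h0 => hap (by rw [h0]; exact p.zero_mem))) ?_
        simp only [Algebra.smul_def, mul_zero]
        exact hbd
      refine Ideal.Quotient.eq_zero_iff_mem.2 ?_
      rw [sub_eq_zero.1 hz]
      exact Ideal.mul_mem_right _ _ (Ideal.mem_map_of_mem _ hrp)
    · exact absurd (hr ▸ p.mul_mem_right r hb) hap)
    (q.map (Ideal.Quotient.mk P)) hq' h'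
  intro b hb
  obtain ⟨t, ht, htb⟩ := hsq (Ideal.Quotient.mk P b) (by
      rw [Ideal.mem_bot, ← map_pow, Ideal.Quotient.eq_zero_iff_mem]; exact hb)
  obtain ⟨t, rfl⟩ := Ideal.Quotient.mk_surjective t
  refine ⟨t, fun h' => ht (Ideal.mem_map_of_mem _ h'), ?_⟩
  rwa [Ideal.mem_bot, ← map_mul, Ideal.Quotient.eq_zero_iff_mem] at htb

end Groth.Agent.ValRedLib
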